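import Groth.Agent.H29Blow.Basic

/-!
# Blowing up disjoint centres
-/

universe u

open CategoryTheory CategoryTheory.Limits AlgebraicGeometry TopologicalSpace

namespace Groth.Agent.H17.BlowDisjoint

variable {X B₁ B₂ : Scheme.{u}}

theorem inf_eq_mul {I J : X.IdealSheafData} (h : I ⊔ J = ⊤) : I ⊓ J = I * J := by
  refine Scheme.IdealSheafData.ext (funext fun V => ?_)
  have hV : I.ideal V ⊔ J.ideal V = ⊤ := by
    have := congrArg (fun K : X.IdealSheafData => K.ideal V) h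
    simpa using this
  rw [Scheme.IdealSheafData.ideal_mul, Pi.mul_apply]
  simpa using (Ideal.mul_eq_inf_of_isCoprime (Ideal.isCoprime_iff_sup_eq.2 hV)).symm

theorem notMem_support_of_sup_eq_top {I J : X.IdealSheafData} (h : I ⊔ J = ⊤) {x : X} (hx : x ∈ I.support) :
    x ∉ J.support := fun hy => by
  have : x ∈ (I ⊔ J).support := by
    rw [Scheme.IdealSheafData.support_sup]
    exact ⟨hx, hy⟩
  rw [h, Scheme.IdealSheafData.support_top] at this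
  exact this

theorem isEffCartierIdeal_fibreProd {I₁ I₂ : X.IdealSheafData} (hdisj : I₁ ⊔ I₂ = ⊤) {σ₁ : B₁ ⟶ X} {σ₂ : B₂ ⟶ X}
    (hσ₁ : BlowUp.IsBlowUp σ₁ I₁) (hσ₂ : BlowUp.IsBlowUp σ₂ I₂) {W : Scheme.{u}} {q₁ : W ⟶ B₁} {q₂ : W ⟶ B₂}
    (H : IsPullback q₁ q₂ σ₁ σ₂) : BlowUp.IsEffCartierIdeal (I₁.comap (q₁ ≫ σ₁)) := fun w => by
  by_cases hw : σ₁ (q₁ w) ∈ I₁.support
  · let U' : X.Opens := ⟨(I₂.support : Set X)ᶜ, I₂.support.2.isOpen_compl⟩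
    have hU' : ∀ x ∈ U', x ∉ I₂.support := fun x hx => hx
    haveI : IsIso (σ₂ ∣_ U') := H29Blow.isIso_morphismRestrict hσ₂ U' hU'
    haveI : IsOpenImmersion ((σ₂ ⁻¹ᵁ U').ι ≫ σ₂) := by rw [← morphismRestrict_ι]; infer_instance
    let O : W.Opens := q₂ ⁻¹ᵁ (σ₂ ⁻¹ᵁ U')
    have hO : IsPullback (O.ι ≫ q₁) (q₂ ∣_ (σ₂ ⁻¹ᵁ U')) σ₁ ((σ₂ ⁻¹ᵁ U').ι ≫ σ₂) :=
      (isPullback_morphismRestrict q₂ (σ₂ ⁻¹ᵁ U')).flip.paste_horiz H
    haveI : IsOpenImmersion (O.ι ≫ q₁) := MorphismProperty.of_isPullback (P := @IsOpenImmersion) hO.flip inferInstance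
    have hwO : w ∈ O := by
      change σ₂ (q₂ w) ∈ U'
      rw [← Scheme.Hom.comp_apply, ← H.w, Scheme.Hom.comp_apply]
      exact notMem_support_of_sup_eq_top hdisj hw
    obtain ⟨U, hU, -, a, ha, haU⟩ := H29Blow.exists_gen hσ₁.1 (W := ⊤) (x := q₁ w) trivial
    obtain ⟨V, hV, hwV, hVsub⟩ := exists_isAffineOpen_mem_and_subset (U := q₁ ⁻¹ᵁ U.1 ⊓ O) (x := w) ⟨hU, hwO⟩
    have hVU : V ≤ q₁ ⁻¹ᵁ U.1 := fun z hz => (hVsub hz).1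
    have hVO : V ≤ O := fun z hz => (hVsub hz).2
    haveI : Flat (V.ι ≫ q₁) := by
      rw [← W.homOfLE_ι hVO, Category.assoc]
      infer_instance
    refine ⟨⟨V, hV⟩, hwV, _, H29Blow.mem_nonZeroDivisors_map_of_flat (H29Blow.flat_appLE q₁ U ⟨V, hV⟩ hVU) ha, ?_⟩
    rw [Scheme.IdealSheafData.comap_comp, H29Blow.ideal_comap _ q₁ U ⟨V, hV⟩ hVU, haU, Ideal.map_span,
      Set.image_singleton]
  · let O : W.Opens := ⟨((q₁ ≫ σ₁) ⁻¹' (I₁.support : Set X))ᶜ, (I₁.support.2.preimage (q₁ ≫ σ₁).continuous).isOpen_compl⟩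
    obtain ⟨V, hV, hwV, hVsub⟩ := exists_isAffineOpen_mem_and_subset (U := O) (x := w) (by exact hw)
    refine ⟨⟨V, hV⟩, hwV, 1, one_mem _, ?_⟩
    rw [Ideal.span_singleton_one]
    haveI : IsAffine (V : Scheme.{u}) := hV
    have h := H29Blow.ideal_comap_ι (I₁.comap (q₁ ≫ σ₁)) ⟨V, hV⟩
    rw [← Scheme.IdealSheafData.comap_comp, H29Blow.comap_eq_top_of_range_disjoint (V.ι ≫ q₁ ≫ σ₁) I₁
      (fun z => hVsub z.2)] at h
    apply_fun Ideal.map V.topIso.hom.hom at h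
    simp only [Ideal.map_map, ← CommRingCat.hom_comp, Iso.inv_hom_id, CommRingCat.hom_id, Ideal.map_id] at h
    exact h.symm.trans (by simp [Ideal.map_top])

theorem exists_iso {B : Scheme.{u}} (I₁ I₂ : X.IdealSheafData) (hdisj : I₁ ⊔ I₂ = ⊤)
    (σ : B ⟶ X) (hσ : BlowUp.IsBlowUp σ (I₁ ⊓ I₂))
    (σ₁ : B₁ ⟶ X) (hσ₁ : BlowUp.IsBlowUp σ₁ I₁) (σ₂ : B₂ ⟶ X) (hσ₂ : BlowUp.IsBlowUp σ₂ I₂) :
    ∃ ι : B ⟶ pullback σ₁ σ₂, IsIso ι ∧ ι ≫ pullback.fst σ₁ σ₂ ≫ σ₁ = σ := by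
  rw [inf_eq_mul hdisj] at hσ
  have hB := hσ.1
  rw [H29Blow.comap_mul] at hB
  obtain ⟨a₁, ha₁, -⟩ := hσ₁.2 B σ (H29Blow.isEffCartierIdeal_left_of_mul hB)
  obtain ⟨a₂, ha₂, -⟩ := hσ₂.2 B σ (H29Blow.isEffCartierIdeal_right_of_mul hB)
  have hW : BlowUp.IsEffCartierIdeal ((I₁ * I₂).comap (pullback.fst σ₁ σ₂ ≫ σ₁)) := by
    rw [H29Blow.comap_mul]
    refine H29Blow.isEffCartierIdeal_mul (isEffCartierIdeal_fibreProd hdisj hσ₁ hσ₂ (IsPullback.of_hasPullback σ₁ σ₂)) ?_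
    rw [pullback.condition]
    exact isEffCartierIdeal_fibreProd (sup_comm I₁ I₂ ▸ hdisj) hσ₂ hσ₁ (IsPullback.of_hasPullback σ₁ σ₂).flip
  obtain ⟨b, hb, -⟩ := hσ.2 _ _ hW
  let ι : B ⟶ pullback σ₁ σ₂ := pullback.lift a₁ a₂ (ha₁.trans ha₂.symm)
  have hι : ι ≫ pullback.fst σ₁ σ₂ ≫ σ₁ = σ := by
    rw [← Category.assoc, pullback.lift_fst, ha₁]
  refine ⟨ι, ⟨b, ?_, ?_⟩, hι⟩
  · exact (hσ.2 B σ hσ.1).unique (by rw [Category.assoc, hb, hι]) (Category.id_comp _)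
  · have hW₁ : BlowUp.IsEffCartierIdeal (I₁.comap (pullback.fst σ₁ σ₂ ≫ σ₁)) :=
      H29Blow.isEffCartierIdeal_left_of_mul (J := I₂.comap (pullback.fst σ₁ σ₂ ≫ σ₁)) (by rw [← H29Blow.comap_mul]; exact hW)
    have hW₂ : BlowUp.IsEffCartierIdeal (I₂.comap (pullback.snd σ₁ σ₂ ≫ σ₂)) := by
      rw [← pullback.condition]
      exact H29Blow.isEffCartierIdeal_right_of_mul (I := I₁.comap (pullback.fst σ₁ σ₂ ≫ σ₁)) (by rw [← H29Blow.comap_mul]; exact hW)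
    refine pullback.hom_ext ((hσ₁.2 _ _ hW₁).unique ?_ ?_) ((hσ₂.2 _ _ hW₂).unique ?_ ?_)
    · rw [Category.assoc, Category.assoc, hι, hb]
    · simp
    · rw [Category.assoc, Category.assoc, ← pullback.condition, hι, hb]
    · simp

end Groth.Agent.H17.BlowDisjoint
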